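import Mathlib
import Cfsg.Agent.ClassicalGeometry.TwoFamilies
import Cfsg.Agent.H375.Odd.NEQ

/-!
# The Dickson invariant over any field of characteristic two (helper199)

`even_sum` : for isometries `f`, `g` of a nondegenerate quadratic space the sum of the ranks of `f - 1`, `g - 1`,
`f g - 1` is even. `OM hβ hQ` : the group of isometries `g` with `g - 1` of even rank.
-/

set_option autoImplicit false
set_option linter.unusedVariables false
set_option linter.unusedSectionVars false

namespace Cfsg.Agent.H199.Out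

open Module
open Cfsg.Agent.H375.Odd

variable {F : Type*} [Field F] {V : Type*} [AddCommGroup V] [Module F V]

/-- the form `β ⊥ β` on `V × V` -/
def BB (β : LinearMap.BilinForm F V) : LinearMap.BilinForm F (V × V) :=
  β.compl₁₂ (LinearMap.fst _ V V) (LinearMap.fst _ V V) + β.compl₁₂ (LinearMap.snd _ V V) (LinearMap.snd _ V V)

theorem BB_apply (β : LinearMap.BilinForm F V) (x y : V × V) : BB β x y = β x.1 y.1 + β x.2 y.2 := rfl

theorem finrank_graph (f : V →ₗ[F] V) : finrank F f.graph = finrank F V := by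
  rw [LinearMap.graph_eq_range_prod]
  apply LinearMap.finrank_range_of_inj
  intro x y hxy
  exact congrArg Prod.fst hxy

theorem finrank_graph_inf (f g : V →ₗ[F] V) :
    finrank F ↥(f.graph ⊓ g.graph) = finrank F (LinearMap.eqLocus f g) := by
  have hinj : Function.Injective (LinearMap.id.prod f : V →ₗ[F] V × V) := by
    intro x y hxy
    exact congrArg Prod.fst hxy
  have h1 : f.graph ⊓ g.graph = (LinearMap.eqLocus f g).map (LinearMap.id.prod f) := by
    ext x
    rw [Submodule.mem_inf, LinearMap.mem_graph_iff, LinearMap.mem_graph_iff, Submodule.mem_map]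
    constructor
    · rintro ⟨h1, h2⟩
      refine ⟨x.1, ?_, ?_⟩
      · show f x.1 = g x.1
        rw [← h1, h2]
      · apply Prod.ext
        · rfl
        · exact h1.symm
    · rintro ⟨y, hy, rfl⟩
      exact ⟨rfl, hy⟩
  rw [h1]
  exact (Submodule.equivMapOfInjective _ hinj (LinearMap.eqLocus f g)).finrank_eq.symm

variable [CharP F 2] [FiniteDimensional F V] {β : V →ₗ[F] V →ₗ[F] F} {Q : V → F}

theorem even_finrank (hβ : Alt β) : Even (finrank F V) := by
  obtain ⟨m, hm⟩ := Cfsg.Agent.ClassicalGeometry.TwoFamilies.exists_finrank_eq_ker_add β hβ.alt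
  have hker : LinearMap.ker β = ⊥ := by
    rw [LinearMap.ker_eq_bot']
    intro v hv
    exact hβ.nd v fun w => by rw [hv]; rfl
  rw [hker, finrank_bot, zero_add] at hm
  exact ⟨m, by rw [hm]⟩

theorem even_fix_sum (hβ : Alt β) (hQ : QF Q β) {f g : V ≃ₗ[F] V} (hf : f ∈ OQ Q) (hg : g ∈ OQ Q) :
    Even (finrank F (bV f) + finrank F (bV g) + finrank F (bV (f * g)) + finrank F V) := by
  have hadd : ∀ x : F, x + x = 0 := CharTwo.add_self_eq_zero
  have hsymm := hβ.symm
  set m := finrank F V with hm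
  have hfin : finrank F (V × V) = 2 * m := by
    rw [Module.finrank_prod, ← hm]; ring
  have hnd : (BB β).Nondegenerate := by
    have hs : ∀ x y, BB β x y = BB β y x := fun x y => by
      rw [BB_apply, BB_apply, hsymm x.1, hsymm x.2]
    have hl : ∀ x : V × V, (∀ y, BB β x y = 0) → x = 0 := by
      intro x hx
      apply Prod.ext
      · apply hβ.nd
        intro w
        have := hx (w, 0)
        rw [BB_apply] at this
        simpa using this
      · apply hβ.nd
        intro w
        have := hx (0, w)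
        rw [BB_apply] at this
        simpa using this
    exact ⟨hl, fun y hy => hl y fun x => by rw [hs]; exact hy x⟩
  have hrefl : (BB β).IsRefl := by
    intro x y hxy
    rw [BB_apply] at hxy ⊢
    rw [hsymm y.1, hsymm y.2]
    exact hxy
  have hq' : ∀ x y : V × V, (Q (x + y).1 + Q (x + y).2) = (Q x.1 + Q x.2) + (Q y.1 + Q y.2) + BB β x y := by
    intro x y
    rw [BB_apply, Prod.fst_add, Prod.snd_add, hQ.add, hQ.add]
    abel
  have hsing : ∀ f : V ≃ₗ[F] V, (∀ v, Q (f v) = Q v) →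
      ∀ x ∈ (f.toLinearMap).graph, Q x.1 + Q x.2 = 0 := by
    intro f hf x hx
    rw [LinearMap.mem_graph_iff] at hx
    rw [hx]
    show Q x.1 + Q (f x.1) = 0
    rw [hf, hadd]
  have hfi : ∀ v, Q (f.symm v) = Q v := fun v => by
    rw [← hf (f.symm v), LinearEquiv.apply_symm_apply]
  have key := Cfsg.Agent.ClassicalGeometry.TwoFamilies.even_intersections (B := BB β)
    (fun x => Q x.1 + Q x.2) hq' hnd hrefl m hfin
    (LinearMap.id (R := F) (M := V)).graph (f.symm.toLinearMap).graph (g.toLinearMap).graph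
    (finrank_graph _) (finrank_graph _) (finrank_graph _)
    (fun x hx => by
      rw [LinearMap.mem_graph_iff] at hx
      show Q x.1 + Q x.2 = 0
      rw [hx]
      exact hadd _)
    (hsing f.symm hfi) (hsing g hg)
  rw [finrank_graph_inf, finrank_graph_inf, finrank_graph_inf] at key
  have e1 : LinearMap.eqLocus (LinearMap.id (R := F) (M := V)) f.symm.toLinearMap = bV f := by
    ext v
    rw [mem_bV]
    show v = f.symm v ↔ f v = v
    constructor
    · intro h
      calc f v = f (f.symm v) := by rw [← h]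
        _ = v := f.apply_symm_apply v
    · intro h
      calc v = f.symm (f v) := (f.symm_apply_apply v).symm
        _ = f.symm v := by rw [h]
  have e2 : LinearMap.eqLocus f.symm.toLinearMap g.toLinearMap = bV (f * g) := by
    ext v
    rw [mem_bV]
    show f.symm v = g v ↔ f (g v) = v
    constructor
    · intro h; rw [← h]; exact f.apply_symm_apply v
    · intro h
      calc f.symm v = f.symm (f (g v)) := by rw [h]
        _ = g v := f.symm_apply_apply _
  have e3 : LinearMap.eqLocus (LinearMap.id (R := F) (M := V)) g.toLinearMap = bV g := by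
    ext v
    rw [mem_bV]
    show v = g v ↔ g v = v
    exact eq_comm
  rw [e1, e2, e3] at key
  rw [Nat.even_iff] at key ⊢
  omega

theorem even_bW_iff (hβ : Alt β) (f : V ≃ₗ[F] V) : Even (finrank F (bW f)) ↔ Even (finrank F (bV f)) := by
  have h1 := finrank_bW_add (F := F) f
  have h2 := even_finrank hβ
  rw [Nat.even_iff] at *
  rw [Nat.even_iff]
  omega

/-- **the ranks of `f - 1`, `g - 1`, `f g - 1`** -/
theorem even_sum (hβ : Alt β) (hQ : QF Q β) {f g : V ≃ₗ[F] V} (hf : f ∈ OQ Q) (hg : g ∈ OQ Q) :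
    Even (finrank F (bW f) + finrank F (bW g) + finrank F (bW (f * g))) := by
  have h1 := finrank_bW_add (F := F) f
  have h2 := finrank_bW_add (F := F) g
  have h3 := finrank_bW_add (F := F) (f * g)
  have h4 := even_finrank hβ
  have h5 := even_fix_sum hβ hQ hf hg
  rw [Nat.even_iff] at *
  omega

theorem bW_one : bW (1 : V ≃ₗ[F] V) = ⊥ := by
  rw [eq_bot_iff]
  rintro _ ⟨v, rfl⟩
  show v - v ∈ _
  rw [sub_self]
  exact Submodule.zero_mem _

/-- the isometries with trivial Dickson invariant -/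
def OM (hβ : Alt β) (hQ : QF Q β) : Subgroup (V ≃ₗ[F] V) where
  carrier := {g | g ∈ OQ Q ∧ Even (finrank F (bW g))}
  mul_mem' := by
    rintro f g ⟨hf, hf'⟩ ⟨hg, hg'⟩
    refine ⟨(OQ Q).mul_mem hf hg, ?_⟩
    have h := even_sum hβ hQ hf hg
    rw [Nat.even_iff] at *
    omega
  one_mem' := by
    refine ⟨(OQ Q).one_mem, ?_⟩
    rw [bW_one, finrank_bot]
    exact ⟨0, rfl⟩
  inv_mem' := by
    rintro f ⟨hf, hf'⟩
    refine ⟨(OQ Q).inv_mem hf, ?_⟩
    have h := even_sum hβ hQ hf ((OQ Q).inv_mem hf)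
    rw [mul_inv_cancel, bW_one, finrank_bot] at h
    rw [Nat.even_iff] at *
    omega

theorem mem_OM {hβ : Alt β} {hQ : QF Q β} {g : V ≃ₗ[F] V} : g ∈ OM hβ hQ ↔ g ∈ OQ Q ∧ Even (finrank F (bW g)) := Iff.rfl

theorem OM_le (hβ : Alt β) (hQ : QF Q β) : OM hβ hQ ≤ OQ Q := fun _ h => h.1

/-- the product of two isometries outside is inside -/
theorem mul_mem_OM (hβ : Alt β) (hQ : QF Q β) {f g : V ≃ₗ[F] V} (hf : f ∈ OQ Q) (hg : g ∈ OQ Q) (hf' : f ∉ OM hβ hQ)
    (hg' : g ∉ OM hβ hQ) : f * g ∈ OM hβ hQ := by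
  refine ⟨(OQ Q).mul_mem hf hg, ?_⟩
  have h := even_sum hβ hQ hf hg
  have h1 : ¬ Even (finrank F (bW f)) := fun h => hf' ⟨hf, h⟩
  have h2 : ¬ Even (finrank F (bW g)) := fun h => hg' ⟨hg, h⟩
  rw [Nat.even_iff] at *
  omega

theorem sq_mem_OM (hβ : Alt β) (hQ : QF Q β) {f : V ≃ₗ[F] V} (hf : f ∈ OQ Q) : f * f ∈ OM hβ hQ := by
  by_cases h : f ∈ OM hβ hQ
  · exact (OM hβ hQ).mul_mem h h
  · exact mul_mem_OM hβ hQ hf hf h h

theorem mem_OM_of_odd (hβ : Alt β) (hQ : QF Q β) {f : V ≃ₗ[F] V} (hf : f ∈ OQ Q) {k : ℕ} (hk : Odd k) (hfk : f ^ k = 1) :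
    f ∈ OM hβ hQ := by
  obtain ⟨m, rfl⟩ := hk
  have h1 : f = (f * f) ^ (m + 1) := by
    have : (f * f) ^ (m + 1) = f ^ (2 * m + 1) * f := by
      rw [← pow_two, ← pow_mul]
      rw [← pow_succ]
      congr 1
    rw [this, hfk, one_mul]
  rw [h1]
  exact (OM hβ hQ).pow_mem (sq_mem_OM hβ hQ hf) _

/-- the parity is invariant under conjugation -/
theorem conj_mem_OM (hβ : Alt β) (hQ : QF Q β) {f g : V ≃ₗ[F] V} (hf : f ∈ OM hβ hQ) (hg : g ∈ OQ Q) :
    g * f * g⁻¹ ∈ OM hβ hQ := by
  by_cases h : g ∈ OM hβ hQ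
  · exact (OM hβ hQ).mul_mem ((OM hβ hQ).mul_mem h hf) ((OM hβ hQ).inv_mem h)
  · have h1 : g * f ∉ OM hβ hQ := fun h1 => h (by
      have := (OM hβ hQ).mul_mem h1 ((OM hβ hQ).inv_mem hf)
      rwa [mul_inv_cancel_right] at this)
    exact mul_mem_OM hβ hQ ((OQ Q).mul_mem hg hf.1) ((OQ Q).inv_mem hg) h1 (fun h2 => h (by
      have := (OM hβ hQ).inv_mem h2
      rwa [inv_inv] at this))

/-! ### Transvections -/

/-- the orthogonal transvection -/
def refl (β : V →ₗ[F] V →ₗ[F] F) (w : V) (c : F) : V →ₗ[F] V := LinearMap.id + (c • (β w)).smulRight w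

theorem refl_apply (w : V) (c : F) (v : V) : refl β w c v = v + (c * β w v) • w := rfl

theorem refl_refl (hβ : Alt β) (w : V) (c : F) (v : V) : refl β w c (refl β w c v) = v := by
  rw [refl_apply, refl_apply, map_add, map_smul, hβ.alt, smul_zero, add_zero, add_assoc, ← add_smul,
    CharTwo.add_self_eq_zero, zero_smul, add_zero]

/-- the transvection as an automorphism -/
def reflE (hβ : Alt β) (w : V) (c : F) : V ≃ₗ[F] V :=
  LinearEquiv.ofInvolutive (refl β w c) (refl_refl hβ w c)

theorem reflE_apply (hβ : Alt β) (w : V) (c : F) (v : V) : reflE hβ w c v = v + (c * β w v) • w := rfl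

theorem reflE_mem (hβ : Alt β) (w : V) (c : F) : reflE hβ w c ∈ Isom β := by
  intro u v
  rw [reflE_apply, reflE_apply]
  simp only [map_add, map_smul, LinearMap.add_apply, LinearMap.smul_apply, smul_eq_mul, hβ.alt, mul_zero, add_zero]
  rw [hβ.symm u w]
  linear_combination (c * β w u * β w v) * (CharTwo.two_eq_zero (R := F))

theorem reflE_mem_OQ (hβ : Alt β) (hQ : QF Q β) {w : V} (hw : Q w ≠ 0) : reflE hβ w (Q w)⁻¹ ∈ OQ Q := by
  intro v
  show Q (reflE hβ w (Q w)⁻¹ v) = Q v
  rw [reflE_apply, hQ.add, hQ.smul, map_smul, smul_eq_mul, hβ.symm v w]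
  have h1 : ((Q w)⁻¹ * β w v) ^ 2 * Q w = (Q w)⁻¹ * β w v * β w v := by
    field_simp
  rw [h1, add_assoc, CharTwo.add_self_eq_zero, add_zero]

theorem finrank_bW_reflE (hβ : Alt β) {w : V} {c : F} (hw : w ≠ 0) (hc : c ≠ 0) : finrank F (bW (reflE hβ w c)) = 1 := by
  have h1 : bW (reflE hβ w c) = F ∙ w := by
    apply le_antisymm
    · rintro _ ⟨v, rfl⟩
      show reflE hβ w c v - v ∈ _
      rw [reflE_apply, add_sub_cancel_left]
      exact Submodule.smul_mem _ _ (Submodule.mem_span_singleton_self w)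
    · rw [Submodule.span_singleton_le_iff_mem]
      obtain ⟨v, hv⟩ : ∃ v, β w v ≠ 0 := by
        by_contra hcon
        push Not at hcon
        exact hw (hβ.nd w hcon)
      refine ⟨(c * β w v)⁻¹ • v, ?_⟩
      show reflE hβ w c ((c * β w v)⁻¹ • v) - (c * β w v)⁻¹ • v = w
      rw [reflE_apply, add_sub_cancel_left, map_smul, smul_eq_mul]
      have : c * ((c * β w v)⁻¹ * β w v) = 1 := by
        field_simp
      rw [this, one_smul]
  rw [h1, finrank_span_singleton hw]

theorem reflE_notMem (hβ : Alt β) (hQ : QF Q β) {w : V} (hw : Q w ≠ 0) : reflE hβ w (Q w)⁻¹ ∉ OM hβ hQ := by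
  rintro ⟨-, h⟩
  rw [finrank_bW_reflE hβ (fun h0 => hw (by rw [h0, hQ.zero])) (inv_ne_zero hw)] at h
  exact absurd h (by decide)

end Cfsg.Agent.H199.Out
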